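import Cfsg.Agent.H577.GUX.Abs
import Cfsg.Agent.H666.GU.Wr2
import Cfsg.Agent.H501.GLn.FourA

/-!
# HUB S4536 / S4537: the exceptional cases `p = 2` from the splitting of the blocks `Δ ^ w`

* `Split 𝔐 SX S b B` : the block `B` of `G` is induced from the block `b × b` of the centralizer of a `2`-element, which
  is isomorphic to `X × X`; the two factors are swapped by an involution of `G`;
* `Split.sec_double`, `Split.sec_three`, `Split.four_le` : the defect groups of `B`;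
* `exc_tower` : the exceptional cases for a tower of groups.
-/

set_option autoImplicit false
set_option linter.unusedSectionVars false
set_option linter.unusedVariables false

open Cfsg
open scoped ComplexConjugate

namespace Cfsg.Agent.H577.GUX

open Cfsg.Agent.H577.GLB Cfsg.Agent.H577.GLB.Std Cfsg.Agent.H614 Cfsg.Agent.H112.GLB
open Cfsg.Agent.H657 Cfsg.Agent.H608.BlockRank Cfsg.Agent.Blocks.Basic Cfsg.Agent.Blocks.Local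
open Cfsg.Agent.H666.Clif Cfsg.Agent.H666.GU Cfsg.Agent.H624.Sl

/-- The block `B` of `G` is induced from `b × b` on the centralizer `L ≃ X × X` of a `2`-element; the factors are
swapped by an involution. -/
def Split {X G : Type*} [Group X] [Finite X] [Group G] [Finite G] (𝔐 : Ideal AlgInt) (SX : Subgroup X)
    (S : Subgroup G) (b : Set (IrrCharacter X)) (B : Set (IrrCharacter G)) : Prop :=
  ∃ (L : Subgroup G) (j : X × X →* G) (t : G) (z : X), Function.Injective j ∧ j.range = L ∧ t * t = 1 ∧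
    (∀ x y, t * j (x, y) * t⁻¹ = j (y, x)) ∧ (∃ k : ℕ, orderOf (j (z, 1)) = 2 ^ k) ∧
    Subgroup.centralizer ({j (z, 1)} : Set G) = L ∧ IsInducedBlock 𝔐 L (prodBlk L j b b) B ∧
    ∀ x ∈ SX, ∀ y ∈ SX, j (x, y) ∈ S

namespace Split

variable {X G : Type*} [Group X] [Finite X] [Group G] [Finite G] {𝔐 : Ideal AlgInt} {SX : Subgroup X}
  {S : Subgroup G} {b : Set (IrrCharacter X)} {B : Set (IrrCharacter G)}

/-- the defect groups -/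
theorem defect (h : Split 𝔐 SX S b B) (hM : IsPModular 2 𝔐) (hb : IsPBlock 𝔐 b) {D₁ : Subgroup X}
    (hD₁ : IsDefectGroup 2 𝔐 b D₁) {D : Subgroup G} (hD : IsDefectGroup 2 𝔐 B D) :
    ∃ (j : X × X →* G) (g : G), Function.Injective j ∧ (∀ d ∈ D₁, ∀ d' ∈ D₁, g * j (d, d') * g⁻¹ ∈ D) ∧
      ∀ x ∈ SX, ∀ y ∈ SX, j (x, y) ∈ S := by
  obtain ⟨L, j, t, z, hj, hr, ht, hswap, hz, hC, hind, hdet⟩ := h
  obtain ⟨g, -, hg⟩ := wreath_defect hM L j hj hr t ht hswap z hz hC hb hD₁ hind hD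
  exact ⟨j, g, hj, hg, hdet⟩

theorem sec_double (h : Split 𝔐 SX S b B) (hM : IsPModular 2 𝔐) (hb : IsPBlock 𝔐 b) {r : ℕ}
    (hr : ∀ D₁ : Subgroup X, IsDefectGroup 2 𝔐 b D₁ → Sec 2 r D₁) {D : Subgroup G}
    (hD : IsDefectGroup 2 𝔐 B D) : Sec 2 (r + r) D := by
  obtain ⟨D₁, hD₁⟩ := H662.exists_defectGroup hM hb
  obtain ⟨j, g, hj, hg, -⟩ := h.defect hM hb hD₁ hD
  have h1 := (((hr D₁ hD₁).prod (hr D₁ hD₁)).map j hj).map (MulAut.conj g).toMonoidHom (MulAut.conj g).injective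
  refine h1.mono ?_
  rintro _ ⟨_, ⟨⟨d, d'⟩, ⟨h, h'⟩, rfl⟩, rfl⟩
  exact hg d h d' h'

theorem sec_three (h : Split 𝔐 SX S b B) (hM : IsPModular 2 𝔐) (hb : IsPBlock 𝔐 b) {i : X}
    (hi : i ∈ Subgroup.center X) (hi4 : orderOf i = 4) {D : Subgroup G} (hD : IsDefectGroup 2 𝔐 B D) :
    Sec 2 3 D := by
  obtain ⟨L, j, t, z, hj, hr, ht, hswap, hz, hC, hind, -⟩ := h
  exact wreath_sec hM L j hj hr t ht hswap z hz hC hb hind hD i hi hi4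

theorem four_le [S.Normal] (h : Split 𝔐 SX S b B) (hM : IsPModular 2 𝔐) (hb : IsPBlock 𝔐 b)
    (hnc : ∀ D₁ : Subgroup X, IsDefectGroup 2 𝔐 b D₁ → ¬ IsCyclic (D₁ ⊓ SX : Subgroup X)) {D : Subgroup G}
    (hD : IsDefectGroup 2 𝔐 B D) {s : ℕ} (hs : SectionalPRankLE 2 s (D ⊓ S : Subgroup G)) : 4 ≤ s := by
  obtain ⟨D₁, hD₁⟩ := H662.exists_defectGroup hM hb
  obtain ⟨j, g, hj, hg, hdet⟩ := h.defect hM hb hD₁ hD
  have hp : IsPGroup 2 (D₁ ⊓ SX : Subgroup X) :=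
    IsPGroup.to_le (Cfsg.Agent.Blocks.Basic.isPGroup_of_isDefectGroup hD₁) inf_le_left
  let f₀ : (D₁ ⊓ SX : Subgroup X) × (D₁ ⊓ SX : Subgroup X) →* G :=
    (MulAut.conj g).toMonoidHom.comp (j.comp (MonoidHom.prodMap (D₁ ⊓ SX).subtype (D₁ ⊓ SX).subtype))
  have hf₀ : ∀ x, f₀ x = g * j ((x.1 : X), (x.2 : X)) * g⁻¹ := fun x => rfl
  have hmem : ∀ x, f₀ x ∈ D ⊓ S := by
    rintro ⟨⟨x, hx⟩, ⟨y, hy⟩⟩
    rw [hf₀]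
    exact ⟨hg x hx.1 y hy.1, Subgroup.Normal.conj_mem inferInstance _ (hdet x hx.2 y hy.2) g⟩
  let f : (D₁ ⊓ SX : Subgroup X) × (D₁ ⊓ SX : Subgroup X) →* (D ⊓ S : Subgroup G) := f₀.codRestrict _ hmem
  have hf : Function.Injective f := by
    rintro ⟨x, y⟩ ⟨x', y'⟩ hxy
    have h1 : g * j ((x : X), (y : X)) * g⁻¹ = g * j ((x' : X), (y' : X)) * g⁻¹ := congrArg Subtype.val hxy
    have h2 := hj (mul_left_cancel (mul_right_cancel h1))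
    rw [Prod.mk.injEq] at h2
    exact Prod.ext (Subtype.ext h2.1) (Subtype.ext h2.2)
  exact H501.GLn.four_le_of_noncyclic hp hp (hnc D₁ hD₁) (hnc D₁ hD₁) f hf hs

end Split

universe u

section tower

variable {Q : ℤ} {M : ℕ} [NeZero M] {N : ℕ} {𝒢 : ℕ → Type u} [∀ n, Group (𝒢 n)] [∀ n, Finite (𝒢 n)]
  (ℛ : ∀ {n : ℕ}, n ≤ N → Rz Q M 2 n (𝒢 n)) (𝒮 : ∀ n, Subgroup (𝒢 n)) {𝔐 : Ideal AlgInt}

/-- the block `B` of `𝒢 n` has the label `t`, which involves only the orbit of `δ₀`, with multiplicity `w` -/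
def HasLab (𝔐 : Ideal AlgInt) (m : ℕ) (δ₀ : ZMod M) (w : ℕ) {n : ℕ} (hn : n ≤ N) (B : Set (IrrCharacter (𝒢 n))) :
    Prop :=
  IsPBlock 𝔐 B ∧ ∃ χ ∈ B, ∃ t : LabZ Q M m n, (ℛ hn).IsLb χ t ∧ POnly M 2 t.t ∧
    (∀ δ, 0 < Std.bsz (t.t δ) → SameZ Q M δ₀ δ) ∧ Std.bsz (t.t δ₀) = w

/-- the splitting of the blocks of even weight -/
def SplitTower (𝔐 : Ideal AlgInt) (m : ℕ) : Prop :=
  ∀ {n : ℕ} (hn : n ≤ N), n ≤ m → ∀ {B : Set (IrrCharacter (𝒢 n))} (δ₀ : ZMod M) (w : ℕ), 0 < w →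
    HasLab (fun {n} => ℛ (n := n)) 𝔐 m δ₀ (2 * w) hn B →
    ∃ (a : ℕ) (ha : a ≤ N) (b : Set (IrrCharacter (𝒢 a))), 0 < a ∧ a ≤ m ∧
      HasLab (fun {n} => ℛ (n := n)) 𝔐 m δ₀ w ha b ∧ Split 𝔐 (𝒮 a) (𝒮 n) b B

variable {ℛ 𝒮}

/-- **The exceptional cases** for a tower of groups. -/
theorem exc_tower [∀ n, (𝒮 n).Normal] (hcyc : ∀ n, 0 < n → IsCyclic (𝒢 n ⧸ 𝒮 n))
    (ℒ : ∀ {n : ℕ} (hn : n ≤ N), 0 < n → LinData (ℛ hn) (𝒮 n)) (h𝔐 : IsPModular 2 𝔐) [𝔐.IsPrime]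
    (hQ2 : (Q : ZMod 2) = 1) {m : ℕ} (hbij : ∀ {n : ℕ} (hn : n ≤ N), n ≤ m → (ℛ hn).Bij m)
    (hone : ∀ {n : ℕ} (hn : n ≤ N), 0 < n → n ≤ m → ∀ {B : Set (IrrCharacter (𝒢 n))}, IsPBlock 𝔐 B →
      ∀ {χ : IrrCharacter (𝒢 n)}, χ ∈ B → ∀ {t : LabZ Q M m n}, (ℛ hn).IsLb χ t →
      ∀ (ψ : IrrCharacter (𝒢 n)) (t' : LabZ Q M m n), (ℛ hn).IsLb ψ t' → SameFam Q M 2 t.t t'.t → ψ ∈ B)
    (hc4 : ∀ n, 0 < n → 4 ∣ (𝒮 n).index → ∀ a, 0 < a → ∃ i ∈ Subgroup.center (𝒢 a), orderOf i = 4)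
    (hsplit : SplitTower (fun {n} => ℛ (n := n)) 𝒮 𝔐 m)
    {n : ℕ} (hn : n ≤ N) (hn0 : 0 < n) (hm : n ≤ m)
    {B : Set (IrrCharacter (𝒢 n))} (hB : IsPBlock 𝔐 B) {B' : Set (IrrCharacter (𝒮 n))} (hB' : IsPBlock 𝔐 B')
    (hcov : Cov (𝒮 n) B B') {χ : IrrCharacter (𝒢 n)} (hχ : χ ∈ B) {t : LabZ Q M m n} (ht : (ℛ hn).IsLb χ t)
    (ht' : POnly M 2 t.t) (δ₀ : ZMod M) (h₁ : ∀ δ, 0 < Std.bsz (t.t δ) → SameZ Q M δ₀ δ)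
    (hw : Std.bsz (t.t δ₀) = 2 ∨ Std.bsz (t.t δ₀) = 4 ∨ Std.bsz (t.t δ₀) = 8)
    (hNz : ∀ a : ZMod M, SF Q M 2 t a → ∃ x : 𝒢 n, H624.Sl.Nz 𝔐 ((ℒ hn hn0).ln a) B x)
    (helab : ∀ D : Subgroup (𝒢 n), IsDefectGroup 2 𝔐 B D → ∃ A : Subgroup (𝒢 n), A ≤ D ∧
      (∀ x ∈ A, ∀ y ∈ A, x * y = y * x) ∧ (∀ x ∈ A, x ^ 2 = 1) ∧ Nat.card A = 2 ^ totW Q M 2 t.t)
    {D' : Subgroup (𝒮 n)} (hD' : IsDefectGroup 2 𝔐 B' D') {s : ℕ} (hs : SectionalPRankLE 2 s D') :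
    blockRank 2 B' ≤ 2 ^ s := by
  classical
  -- weight two: the intersection with `S` is not cyclic
  have two : ∀ {a : ℕ} (ha : a ≤ N), 0 < a → a ≤ m → ∀ {b : Set (IrrCharacter (𝒢 a))} (δ₀ : ZMod M),
      HasLab (fun {n} => ℛ (n := n)) 𝔐 m δ₀ 2 ha b → ∀ D : Subgroup (𝒢 a), IsDefectGroup 2 𝔐 b D →
      ¬ IsCyclic (D ⊓ 𝒮 a : Subgroup (𝒢 a)) := by
    rintro a ha ha0 hma b δ₀ ⟨hb, χ, hχ, t, ht, ht', h₁, hw⟩ D hD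
    refine H111.GLB.rz_not_isCyclic_two (ℛ ha) h𝔐 hma (hbij ha hma) hQ2 t ht' δ₀ h₁ hw hb hχ ht
      (fun ψ t' h1 h2 => hone ha ha0 hma hb hχ ht ψ t' h1 h2) (𝒮 a) (hcyc a ha0) ?_ hD
    intro l hl ho
    obtain ⟨c, hc, rfl⟩ := (ℒ ha ha0).surj l hl
    exact ⟨c, hc, by rwa [(ℒ ha ha0).ord c hc] at ho, (ℒ ha ha0).tw c hc⟩
  -- weight two: the section of rank three
  have three : 4 ∣ (𝒮 n).index → ∀ {a : ℕ} (ha : a ≤ N), 0 < a → a ≤ m → ∀ {b : Set (IrrCharacter (𝒢 a))}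
      (δ₀ : ZMod M), HasLab (fun {n} => ℛ (n := n)) 𝔐 m δ₀ 2 ha b → ∀ D : Subgroup (𝒢 a),
      IsDefectGroup 2 𝔐 b D → Sec 2 3 D := by
    rintro h4 a ha ha0 hma b δ₀ hl D hD
    obtain ⟨c, hc, b', hc0, hmc, hl', hsp⟩ := hsplit ha hma δ₀ 1 one_pos hl
    obtain ⟨i, hi, hi4⟩ := hc4 n hn0 h4 c hc0
    exact hsp.sec_three h𝔐 hl'.1 hi hi4 hD
  have six : 4 ∣ (𝒮 n).index → ∀ {a : ℕ} (ha : a ≤ N), 0 < a → a ≤ m → ∀ {b : Set (IrrCharacter (𝒢 a))}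
      (δ₀ : ZMod M), HasLab (fun {n} => ℛ (n := n)) 𝔐 m δ₀ 4 ha b → ∀ D : Subgroup (𝒢 a),
      IsDefectGroup 2 𝔐 b D → Sec 2 6 D := by
    rintro h4 a ha ha0 hma b δ₀ hl D hD
    obtain ⟨c, hc, b', hc0, hmc, hl', hsp⟩ := hsplit ha hma δ₀ 2 two_pos hl
    exact hsp.sec_double h𝔐 hl'.1 (three h4 hc hc0 hmc δ₀ hl') hD
  refine exc_abs (ℒ hn hn0) h𝔐 (hcyc n hn0) hQ2 hm (hbij hn hm) hB hB' hcov hχ ht ht' δ₀ h₁ hw hNz helab ?_ ?_ ?_ ?_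
    hD' hs
  · intro hw D hD
    exact two hn hn0 hm δ₀ ⟨hB, χ, hχ, t, ht, ht', h₁, hw⟩ D hD
  · intro hw D hD s hs
    obtain ⟨c, hc, b', hc0, hmc, hl', hsp⟩ := hsplit hn hm δ₀ 2 two_pos ⟨hB, χ, hχ, t, ht, ht', h₁, hw⟩
    exact hsp.four_le h𝔐 hl'.1 (two hc hc0 hmc δ₀ hl') hD hs
  · intro hw h4 D hD
    exact six h4 hn hn0 hm δ₀ ⟨hB, χ, hχ, t, ht, ht', h₁, hw⟩ D hD
  · intro hw h4 D hD
    obtain ⟨c, hc, b', hc0, hmc, hl', hsp⟩ := hsplit hn hm δ₀ 4 (by norm_num) ⟨hB, χ, hχ, t, ht, ht', h₁, hw⟩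
    obtain ⟨H, K, h1, h2, h3, h4, h5, h6⟩ := hsp.sec_double h𝔐 hl'.1 (six h4 hc hc0 hmc δ₀ hl') hD
    exact ⟨H, K, h1, h2, h3, h4, h5, le_trans (Nat.mul_le_mul_right _
      (Nat.pow_le_pow_right two_pos (by norm_num))) h6⟩

end tower

end Cfsg.Agent.H577.GUX
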