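import Cfsg.Agent.H666.Clif.GL
import Cfsg.Agent.H577.GLB.Exc
import Cfsg.Agent.H111.GLB.E1
import Cfsg.Agent.H666.GU.Secn

/-!
# HUB S4536 / S4537: the exceptional cases `p = 2`, abstract version

`R : Rz Q M 2 n G`, `L : LinData R S`, `B` a block of `G` whose label `t` involves only one orbit `δ₀`, with multiplicity
`w = 2, 4, 8`, `B'` a block of `S` below `B` with a defect group of sectional rank at most `s`: `l(B') ≤ 2 ^ s`.
The inputs are properties of the defect groups `D` of `B`: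

* `helab` : elementary abelian subgroups of order `2 ^ totW`;
* `hE1` : `w = 2`: `D ∩ S` is not cyclic;
* `hE2` : `w = 4`: the sectional rank of `D ∩ S` is at least 4;
* `hE5` : `w = 4`, `4 ∣ |G : S|`: `D` has a section of rank 6;
* `hE8` : `w = 8`, `4 ∣ |G : S|`: `D` has a section of rank 9.
-/

set_option autoImplicit false
set_option linter.unusedSectionVars false

open Cfsg
open scoped ComplexConjugate

namespace Cfsg.Agent.H577.GUX

open Cfsg.Agent.H577.GLB Cfsg.Agent.H577.GLB.Std Cfsg.Agent.H614 Cfsg.Agent.H112.GLB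
open Cfsg.Agent.H657 Cfsg.Agent.H608.BlockRank Cfsg.Agent.Blocks.Basic Cfsg.Agent.Blocks.Local
open Cfsg.Agent.H666.Clif Cfsg.Agent.H666.GU

universe u

/-- the total weight of a label over one orbit -/
theorem totW_only {Q : ℤ} {M : ℕ} [NeZero M] {p : ℕ} (hQ : IsUnit (Q : ZMod M)) (hQp : (Q : ZMod p) = 1) {m n : ℕ}
    (t₀ : LabZ Q M m n) (h₀ : POnly M p t₀.t) (δ₀ : ZMod M) (h₁ : ∀ δ, 0 < Std.bsz (t₀.t δ) → SameZ Q M δ₀ δ)
    (hw : 0 < Std.bsz (t₀.t δ₀)) : totW Q M p t₀.t = Std.bsz (t₀.t δ₀) :=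
  Exc.totW_onlyOn hQ hQp t₀ h₀ δ₀ h₁ hw

/-- an elementary abelian subgroup is a section -/
theorem sec_of_elab {G : Type*} [Group G] {p W : ℕ} {D A : Subgroup G} (hA : A ≤ D)
    (hc : ∀ x ∈ A, ∀ y ∈ A, x * y = y * x) (he : ∀ x ∈ A, x ^ p = 1) (hcard : Nat.card A = p ^ W) : Sec p W D := by
  refine ⟨A, ⊥, hA, bot_le, ?_, ?_, ?_, ?_⟩
  · intro h _ k hk
    rw [Subgroup.mem_bot.1 hk, mul_one, mul_inv_cancel]
    exact Subgroup.one_mem _
  · intro x hx y hy
    rw [hc x hx y hy, mul_inv_cancel]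
    exact Subgroup.one_mem _
  · intro x hx
    rw [he x hx]
    exact Subgroup.one_mem _
  · rw [Subgroup.card_bot, mul_one, hcard]

/-- numbers of constituents -/
theorem sum_kappa {ι : Type*} [Fintype ι] (κ : ι → ℕ) {P c : ℕ} (hP : Nat.card ι ≤ P) (hκ : ∀ i, κ i ≤ c) :
    ∑ i, κ i ≤ P * c := by
  calc ∑ i, κ i ≤ ∑ _i : ι, c := Finset.sum_le_sum fun i _ => hκ i
    _ = Nat.card ι * c := by rw [Finset.sum_const, smul_eq_mul, Finset.card_univ, Nat.card_eq_fintype_card]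
    _ ≤ P * c := Nat.mul_le_mul_right _ hP

section

variable {Q : ℤ} {M : ℕ} [NeZero M] {n : ℕ} {G : Type u} [Group G] [Finite G] {R : Rz Q M 2 n G} {S : Subgroup G}
  {𝔐 : Ideal AlgInt} {V : ValuationSubring ℂ}

/-- **The exceptional cases**, abstract. -/
theorem exc_abs (L : LinData R S) (h𝔐 : IsPModular 2 𝔐) [𝔐.IsPrime] [S.Normal] (hcyc : IsCyclic (G ⧸ S))
    (hQ2 : (Q : ZMod 2) = 1) {m : ℕ} (hm : n ≤ m) (hlab : R.Bij m)
    {B : Set (IrrCharacter G)} (hB : IsPBlock 𝔐 B) {B' : Set (IrrCharacter S)} (hB' : IsPBlock 𝔐 B')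
    (hcov : Cov S B B') {χ : IrrCharacter G} (hχ : χ ∈ B) {t : LabZ Q M m n} (ht : R.IsLb χ t)
    (ht' : POnly M 2 t.t) (δ₀ : ZMod M) (h₁ : ∀ δ, 0 < Std.bsz (t.t δ) → SameZ Q M δ₀ δ)
    (hw : Std.bsz (t.t δ₀) = 2 ∨ Std.bsz (t.t δ₀) = 4 ∨ Std.bsz (t.t δ₀) = 8)
    (hNz : ∀ a : ZMod M, SF Q M 2 t a → ∃ x : G, H624.Sl.Nz 𝔐 (L.ln a) B x)
    (helab : ∀ D : Subgroup G, IsDefectGroup 2 𝔐 B D → ∃ A : Subgroup G, A ≤ D ∧
      (∀ x ∈ A, ∀ y ∈ A, x * y = y * x) ∧ (∀ x ∈ A, x ^ 2 = 1) ∧ Nat.card A = 2 ^ totW Q M 2 t.t)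
    (hE1 : Std.bsz (t.t δ₀) = 2 → ∀ D : Subgroup G, IsDefectGroup 2 𝔐 B D → ¬ IsCyclic (D ⊓ S : Subgroup G))
    (hE2 : Std.bsz (t.t δ₀) = 4 → ∀ D : Subgroup G, IsDefectGroup 2 𝔐 B D → ∀ s : ℕ,
      SectionalPRankLE 2 s (D ⊓ S : Subgroup G) → 4 ≤ s)
    (hE5 : Std.bsz (t.t δ₀) = 4 → 4 ∣ S.index → ∀ D : Subgroup G, IsDefectGroup 2 𝔐 B D → Sec 2 6 D)
    (hE8 : Std.bsz (t.t δ₀) = 8 → 4 ∣ S.index → ∀ D : Subgroup G, IsDefectGroup 2 𝔐 B D → Sec 2 9 D)
    {D' : Subgroup S} (hD' : IsDefectGroup 2 𝔐 B' D') {s : ℕ} (hs : SectionalPRankLE 2 s D') :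
    blockRank 2 B' ≤ 2 ^ s := by
  classical
  obtain ⟨V, hV⟩ := exists_above h𝔐
  have : Fact (Nat.Prime 2) := ⟨Nat.prime_two⟩
  have := Fintype.ofFinite (IBr V G)
  have := Fintype.ofFinite (ibrUnder V B)
  have hgen := exists_SF_gen R.unit t ht'
  obtain ⟨hc1, -, hstab⟩ := H76.GLB.card_family_one Nat.prime_two R.unit hQ2 hm t ht' δ₀ h₁
  -- the descent
  choose O hOne hO hO1 hO2 using H112.Clif.clifford_cyclic (V := V) h𝔐 hV (pKer S 2)
    (isCyclic_quot (le_pKer S 2) hcyc)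
  have hdesc := L.desc_SF_kappa h𝔐 hV hcyc (m := m) hB hB' hcov hgen hNz O (fun i _ => hO i)
  have hSF : Nat.card {a : ZMod M // Stab Q M 2 t a} = Nat.card {b : ZMod M // SF Q M 2 t b} :=
    Nat.card_congr (Equiv.subtypeEquivRight fun a => ⟨fun h => (hstab a h).1, fun h => h.1⟩)
  have hpos : 0 < Nat.card {b : ZMod M // SF Q M 2 t b} := by
    obtain ⟨a, ha, -⟩ := hgen
    have : Nonempty {b : ZMod M // SF Q M 2 t b} := ⟨⟨a, ha⟩⟩
    exact Nat.card_pos
  have h2 : blockRank 2 B' ≤ ∑ i : ibrUnder V B, (O i).card := by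
    refine Nat.le_of_mul_le_mul_right ?_ hpos
    refine hdesc.trans ?_
    rw [Finset.sum_mul]
    refine Finset.sum_le_sum fun i _ => ?_
    rw [mul_comm]
    refine Nat.mul_le_mul_left _ ?_
    rw [← hSF]
    exact L.card_fixing_le h𝔐 hV hcyc hm hlab hB hχ ht i.2
  -- the number of Brauer characters
  have hcardB : Nat.card (ibrUnder V B) ≤ Fintype.card (Nat.Partition (Std.bsz (t.t δ₀))) := by
    rw [← hc1]
    have hT0 : TorZ Q M 1 (0 : ZMod M) := by rw [TorZ, mul_zero]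
    have hl0 : L.ln 0 = 1 := orderOf_eq_one_iff.1 ((L.ord 0 hT0).trans addOrderOf_zero)
    have h3 := R.card_fixed_le' h𝔐 hV hm hlab hB hχ ht 0 hT0
      (by rw [PReg, addOrderOf_zero]; exact Nat.coprime_one_left 2) (L.ln 0) (L.tw 0 hT0)
    rw [hl0] at h3
    refine le_trans (le_of_eq (Nat.card_congr (Equiv.subtypeEquivRight fun i => ?_))) h3
    simp
  -- the numbers of constituents
  have hκ : ∀ i : ibrUnder V B, (O i).card ∣ Std.bsz (t.t δ₀) := fun i =>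
    L.card_pKer_dvd h𝔐 hV hcyc hm hlab hB hχ ht ht' i.2 (hO i) δ₀
  have hκ' : ¬ 4 ∣ S.index → ∀ i : ibrUnder V B, (O i).card ≤ 2 := by
    intro h4 i
    obtain ⟨l, χ', -, hl, ho, ⟨j, hj⟩, -⟩ := exists_fixed_pKer h𝔐 hV S hcyc hB i.2 (hO i)
    have h5 : orderOf l ∣ S.index := by
      refine orderOf_dvd_of_pow_eq_one (MonoidHom.ext fun g => ?_)
      have h6 : g ^ S.index ∈ S := by
        have := QuotientGroup.eq_one_iff (N := S) (g ^ S.index)
        rw [← this, QuotientGroup.mk_pow]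
        exact pow_card_eq_one'
      rw [MonoidHom.pow_apply, ← map_pow, hl _ h6]
      rfl
    rw [ho, hj] at h5
    rw [hj]
    have h6 : j < 2 := by
      by_contra h7
      exact h4 ((pow_dvd_pow 2 (not_lt.1 h7)).trans h5)
    calc 2 ^ j ≤ 2 ^ 1 := Nat.pow_le_pow_right two_pos (by omega)
      _ = 2 := pow_one 2
  -- the defect group
  obtain ⟨P, hP1, hP2⟩ := Rank.exists_inf h𝔐 S hB hB' hcov D' hD'
  have hsP : SectionalPRankLE 2 s (P ⊓ S : Subgroup G) := by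
    rw [hP2]
    exact H583.SecRank.sectional_of_mulEquiv hs (D'.equivMapOfInjective _ S.subtype_injective)
  obtain ⟨c1, c2, c3, c4, -, -, c7, c8⟩ := Cfsg.Agent.H38.S4536.card_partition_small
  rcases hw with hw | hw | hw
  · -- weight two
    have h6 : 2 ≤ s := by
      refine Rank.two_le h𝔐.1 ?_ (hE1 hw P hP1) hsP
      have h7 : IsPGroup 2 P := Cfsg.Agent.Blocks.Basic.isPGroup_of_isDefectGroup hP1
      exact h7.to_le inf_le_left
    rw [hw, c2] at hcardB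
    have h7 := sum_kappa (fun i : ibrUnder V B => (O i).card) (c := 2) hcardB
      (fun i => Nat.le_of_dvd two_pos ((hκ i).trans (dvd_of_eq hw)))
    exact (h2.trans h7).trans (le_trans (by norm_num) (Nat.pow_le_pow_right (by norm_num) h6))
  · -- weight four
    rw [hw, c4] at hcardB
    by_cases h4 : 4 ∣ S.index
    · have h6 : 5 ≤ s := ((hE5 hw h4 P hP1).inf two_pos S hcyc).le one_lt_two hsP
      have h7 := sum_kappa (fun i : ibrUnder V B => (O i).card) (c := 4) hcardB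
        (fun i => Nat.le_of_dvd (by norm_num) ((hκ i).trans (dvd_of_eq hw)))
      exact (h2.trans h7).trans (le_trans (by norm_num) (Nat.pow_le_pow_right (by norm_num) h6))
    · have h6 : 4 ≤ s := hE2 hw P hP1 s hsP
      have h7 := sum_kappa (fun i : ibrUnder V B => (O i).card) (c := 2) hcardB (hκ' h4)
      exact (h2.trans h7).trans (le_trans (by norm_num) (Nat.pow_le_pow_right (by norm_num) h6))
  · -- weight eight
    rw [hw, c8] at hcardB
    by_cases h4 : 4 ∣ S.index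
    · have h6 : 8 ≤ s := ((hE8 hw h4 P hP1).inf two_pos S hcyc).le one_lt_two hsP
      have h7 := sum_kappa (fun i : ibrUnder V B => (O i).card) (c := 8) hcardB
        (fun i => Nat.le_of_dvd (by norm_num) ((hκ i).trans (dvd_of_eq hw)))
      exact (h2.trans h7).trans (le_trans (by norm_num) (Nat.pow_le_pow_right (by norm_num) h6))
    · obtain ⟨A, hA1, hA2, hA3, hA4⟩ := helab P hP1
      rw [totW_only R.unit hQ2 t ht' δ₀ h₁ (by rw [hw]; norm_num), hw] at hA4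
      have h6 : 7 ≤ s := ((sec_of_elab hA1 hA2 hA3 hA4).inf two_pos S hcyc).le one_lt_two hsP
      have h7 := sum_kappa (fun i : ibrUnder V B => (O i).card) (c := 2) hcardB (hκ' h4)
      exact (h2.trans h7).trans (le_trans (by norm_num) (Nat.pow_le_pow_right (by norm_num) h6))

end

end Cfsg.Agent.H577.GUX
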